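import Mathlib

/-! Admissible systems of parameters for finite group actions. -/

universe u v w

namespace Groth.Agent.WildAdm

theorem admissible_of_triangular (A : Type u) [CommRing A] [IsLocalRing A] [IsNoetherianRing A]
    (G : Type v) [Group G] [MulSemiringAction G A]
    (n : ℕ) (u : Fin n → A)
    (hu : Ideal.span (Set.range u) = IsLocalRing.maximalIdeal A)
    (htri : ∀ (σ : G) (i : Fin n),
      σ • u i ∈ Ideal.span (u '' {j | j ≤ i}) ⊔ IsLocalRing.maximalIdeal A ^ 2) :
    ∀ τ : Fin n → G,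
      Ideal.span (Set.range fun i => τ i • u i) = IsLocalRing.maximalIdeal A := by
  intro τ
  set m := IsLocalRing.maximalIdeal A with hm
  have hsm : ∀ (σ : G) (z : A), z ∈ m → σ • z ∈ m := fun σ z hz h =>
    hz (by
      have h' := h.map (MulSemiringAction.toRingHom G A σ⁻¹)
      rwa [MulSemiringAction.toRingHom_apply, inv_smul_smul] at h')
  let J : Ideal A := Ideal.span (Set.range fun i => τ i • u i)
  have hJm : J ≤ m := Ideal.span_le.mpr (by
    rintro _ ⟨i, rfl⟩
    exact hsm _ _ (hu ▸ Ideal.subset_span (Set.mem_range_self i)))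
  have hm2 : ∀ σ : G, m ^ 2 ≤ Ideal.comap (MulSemiringAction.toRingHom G A σ) (m ^ 2) := fun σ => by
    rw [← Ideal.map_le_iff_le_comap, Ideal.map_pow]
    have hmm : m.map (MulSemiringAction.toRingHom G A σ) ≤ m :=
      Ideal.map_le_iff_le_comap.mpr fun z hz => hsm σ z hz
    exact Ideal.pow_right_mono hmm 2
  have key : ∀ i : Fin n, u i ∈ J ⊔ m ^ 2 := by
    intro i
    induction i using WellFoundedLT.induction with
    | _ i ih =>
      let W := Ideal.comap (MulSemiringAction.toRingHom G A (τ i)) (J ⊔ m ^ 2)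
      have hV : Ideal.span (u '' {j | j ≤ i}) ⊔ m ^ 2 ≤ W := by
        refine sup_le (Ideal.span_le.mpr ?_) ((hm2 (τ i)).trans (Ideal.comap_mono le_sup_right))
        rintro _ ⟨j, hj, rfl⟩
        change τ i • u j ∈ J ⊔ m ^ 2
        rcases (show j ≤ i from hj).lt_or_eq with h | rfl
        · refine (sup_le (Ideal.span_le.mpr ?_) le_sup_right :
            Ideal.span (u '' {l | l ≤ j}) ⊔ m ^ 2 ≤ J ⊔ m ^ 2) (htri (τ i) j)
          rintro _ ⟨l, hl, rfl⟩
          exact ih l (lt_of_le_of_lt hl h)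
        · exact Ideal.mem_sup_left (Ideal.subset_span ⟨j, rfl⟩)
      have h1 : τ i • ((τ i)⁻¹ • u i) ∈ J ⊔ m ^ 2 := hV (htri (τ i)⁻¹ i)
      rwa [smul_inv_smul] at h1
  refine le_antisymm hJm ?_
  have hle : m ≤ J ⊔ m • m := by
    conv_lhs => rw [← hu]
    rw [smul_eq_mul, ← pow_two, Ideal.span_le]
    rintro _ ⟨i, rfl⟩
    exact key i
  exact Submodule.le_of_le_smul_of_le_jacobson_bot (IsNoetherian.noetherian _)
    (IsLocalRing.jacobson_eq_maximalIdeal ⊥ bot_ne_top).ge hle

theorem exists_stable_vector (p : ℕ) [Fact p.Prime] {G : Type v} [Group G] [Finite G] (hG : IsPGroup p G)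
    {Q : Type w} [AddCommGroup Q] [Module (ZMod p) Q] [DistribMulAction G Q]
    [SMulCommClass G (ZMod p) Q] (q : Q) (hq : q ≠ 0) :
    ∃ q' ∈ Submodule.span (ZMod p) (Set.range fun σ : G => σ • q), q' ≠ 0 ∧ ∀ σ : G, σ • q' = q' := by
  set S := Submodule.span (ZMod p) (Set.range fun σ : G => σ • q) with hS
  have : Module.Finite (ZMod p) S := Module.Finite.span_of_finite (ZMod p) (Set.finite_range _)
  have : Finite S := Module.finite_of_finite (ZMod p)
  have hstab : ∀ (σ : G) (z : Q), z ∈ S → σ • z ∈ S := by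
    intro σ z hz
    induction hz using Submodule.span_induction with
    | mem y hy => obtain ⟨τ, rfl⟩ := hy; exact Submodule.subset_span ⟨σ * τ, mul_smul σ τ q⟩
    | zero => rw [smul_zero]; exact S.zero_mem
    | add y z _ _ hy hz => rw [smul_add]; exact S.add_mem hy hz
    | smul t y _ hy => rw [smul_comm]; exact S.smul_mem t hy
  let : MulAction G S :=
    { smul := fun σ z => ⟨σ • (z : Q), hstab σ z z.2⟩
      one_smul := fun z => Subtype.ext (one_smul G (z : Q))
      mul_smul := fun σ τ z => Subtype.ext (mul_smul σ τ (z : Q)) }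
  have hcoe : ∀ (σ : G) (z : S), ((σ • z : S) : Q) = σ • (z : Q) := fun _ _ => rfl
  let q₀ : S := ⟨q, Submodule.subset_span ⟨1, one_smul G q⟩⟩
  have hdvd : p ∣ Nat.card S := by
    have h1 : addOrderOf q₀ = p := by
      refine addOrderOf_eq_prime ?_ (fun h => hq (congrArg Subtype.val h))
      rw [← Nat.cast_smul_eq_nsmul (ZMod p), ZMod.natCast_self, zero_smul]
    have h2 := addOrderOf_dvd_natCard q₀
    rwa [h1] at h2
  obtain ⟨b, hb, hb0⟩ := hG.exists_fixed_point_of_prime_dvd_card_of_fixed_point S hdvd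
    (show (0 : S) ∈ MulAction.fixedPoints G S from fun σ => Subtype.ext (by rw [hcoe]; exact smul_zero σ))
  exact ⟨b, b.2, fun h => hb0 (Subtype.ext h).symm, fun σ => by rw [← hcoe, hb σ]⟩

theorem exists_fixed_mod (p : ℕ) [Fact p.Prime] (A : Type u) [CommRing A] [CharP A p]
    (G : Type v) [Group G] [Finite G] [MulSemiringAction G A] (hG : IsPGroup p G)
    (m W : Ideal A) (hm : ∀ (σ : G) (a : A), a ∈ m → σ • a ∈ m)
    (hW : ∀ (σ : G) (a : A), a ∈ W → σ • a ∈ W) (hne : ¬ m ≤ W) :
    ∃ v ∈ m, v ∉ W ∧ ∀ σ : G, σ • v - v ∈ W := by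
  obtain ⟨v₀, hv₀, hv₀W⟩ := SetLike.not_le_iff_exists.mp hne
  let ψ : G → (A ⧸ W) →+* (A ⧸ W) := fun σ =>
    Ideal.quotientMap W (MulSemiringAction.toRingHom G A σ) (fun a ha => hW σ a ha)
  let : DistribMulAction G (A ⧸ W) :=
    { smul := fun σ => ψ σ
      one_smul := fun z => by
        obtain ⟨a, rfl⟩ := Ideal.Quotient.mk_surjective z
        exact congrArg (Ideal.Quotient.mk W) (one_smul G a)
      mul_smul := fun σ τ z => by
        obtain ⟨a, rfl⟩ := Ideal.Quotient.mk_surjective z
        exact congrArg (Ideal.Quotient.mk W) (mul_smul σ τ a)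
      smul_zero := fun σ => map_zero (ψ σ)
      smul_add := fun σ => map_add (ψ σ) }
  have hmk : ∀ (σ : G) (a : A), σ • Ideal.Quotient.mk W a = Ideal.Quotient.mk W (σ • a) := fun _ _ => rfl
  have hp0 : ∀ z : A ⧸ W, p • z = 0 := fun z => by
    obtain ⟨a, rfl⟩ := Ideal.Quotient.mk_surjective z
    rw [← map_nsmul, nsmul_eq_mul, CharP.cast_eq_zero, zero_mul, map_zero]
  let : Module (ZMod p) (A ⧸ W) := AddCommGroup.zmodModule hp0
  have : SMulCommClass G (ZMod p) (A ⧸ W) := ⟨fun σ t z => by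
    rw [← ZMod.natCast_zmod_val t, Nat.cast_smul_eq_nsmul, Nat.cast_smul_eq_nsmul]
    exact map_nsmul (ψ σ) _ _⟩
  obtain ⟨q, hqS, hq0, hqf⟩ := exists_stable_vector p hG (Ideal.Quotient.mk W v₀)
    (fun h => hv₀W (Ideal.Quotient.eq_zero_iff_mem.mp h))
  have hqm : ∃ v ∈ m, Ideal.Quotient.mk W v = q := by
    clear hq0 hqf
    induction hqS using Submodule.span_induction with
    | mem y hy => obtain ⟨σ, rfl⟩ := hy; exact ⟨σ • v₀, hm σ _ hv₀, (hmk σ v₀).symm⟩
    | zero => exact ⟨0, m.zero_mem, map_zero _⟩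
    | add y z _ _ hy hz =>
      obtain ⟨a, ha, rfl⟩ := hy
      obtain ⟨b, hb, rfl⟩ := hz
      exact ⟨a + b, m.add_mem ha hb, map_add _ _ _⟩
    | smul t y _ hy =>
      obtain ⟨a, ha, rfl⟩ := hy
      refine ⟨(t.val : ℕ) • a, m.smul_of_tower_mem _ ha, ?_⟩
      rw [map_nsmul, ← Nat.cast_smul_eq_nsmul (ZMod p), ZMod.natCast_zmod_val]
  obtain ⟨v, hv, rfl⟩ := hqm
  refine ⟨v, hv, fun h => hq0 (Ideal.Quotient.eq_zero_iff_mem.mpr h), fun σ => ?_⟩
  exact Ideal.Quotient.eq.mp ((hmk σ v).symm.trans (hqf σ))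

theorem exists_triangular (p : ℕ) [Fact p.Prime] (A : Type u) [CommRing A] [IsRegularLocalRing A] [CharP A p]
    (G : Type v) [Group G] [Finite G] [MulSemiringAction G A] (hG : IsPGroup p G)
    (n : ℕ) (hn : ringKrullDim A = n) :
    ∃ u : Fin n → A, Ideal.span (Set.range u) = IsLocalRing.maximalIdeal A ∧ ∀ (σ : G) (i : Fin n),
      σ • u i ∈ Ideal.span (u '' {j | j ≤ i}) ⊔ IsLocalRing.maximalIdeal A ^ 2 := by
  set m := IsLocalRing.maximalIdeal A with hmdef
  let κ := IsLocalRing.ResidueField A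
  have hdim : Module.finrank κ (IsLocalRing.CotangentSpace A) = n := by
    have h := (IsRegularLocalRing.iff_finrank_cotangentSpace A).mp inferInstance
    rw [hn] at h
    exact_mod_cast h
  have hsm : ∀ (σ : G) (z : A), z ∈ m → σ • z ∈ m := fun σ z hz h =>
    hz (by
      have h' := h.map (MulSemiringAction.toRingHom G A σ⁻¹)
      rwa [MulSemiringAction.toRingHom_apply, inv_smul_smul] at h')
  have hm2 : ∀ (σ : G) (z : A), z ∈ m ^ 2 → σ • z ∈ m ^ 2 := fun σ z hz => by
    have : (m ^ 2).map (MulSemiringAction.toRingHom G A σ) ≤ m ^ 2 := by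
      rw [Ideal.map_pow]
      have hmm : m.map (MulSemiringAction.toRingHom G A σ) ≤ m :=
        Ideal.map_le_iff_le_comap.mpr fun a ha => hsm σ a ha
      exact Ideal.pow_right_mono hmm 2
    exact this (Ideal.mem_map_of_mem _ hz)
  have hmono : ∀ {S T : Set A}, S ⊆ T → ∀ {z}, z ∈ Ideal.span S ⊔ m ^ 2 → z ∈ Ideal.span T ⊔ m ^ 2 :=
    fun hST _ hz => (sup_le_sup_right (Ideal.span_mono hST) (m ^ 2) :
      Ideal.span _ ⊔ m ^ 2 ≤ Ideal.span _ ⊔ m ^ 2) hz
  have key : ∀ l, l ≤ n → ∃ u : Fin l → m,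
      LinearIndependent κ (fun i => m.toCotangent (u i)) ∧ ∀ (σ : G) (i : Fin l),
      σ • (u i : A) - (u i : A) ∈ Ideal.span ((fun j => (u j : A)) '' {j | j < i}) ⊔ m ^ 2 := by
    intro l
    induction l with
    | zero => exact fun _ => ⟨Fin.elim0, linearIndependent_empty_type, fun _ i => i.elim0⟩
    | succ l ih =>
      intro hl
      obtain ⟨u, hli, htri⟩ := ih (by omega)
      set W := Ideal.span (Set.range fun j => (u j : A)) ⊔ m ^ 2 with hWdef
      have hWst : ∀ (σ : G) (a : A), a ∈ W → σ • a ∈ W := fun σ a ha => by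
        have hle : W ≤ Ideal.comap (MulSemiringAction.toRingHom G A σ) W := by
          refine sup_le (Ideal.span_le.mpr ?_) (fun z hz => Ideal.mem_sup_right (hm2 σ z hz))
          rintro _ ⟨j, rfl⟩
          have h1 : σ • (u j : A) - (u j : A) ∈ W :=
            hmono (by rintro _ ⟨i, _, rfl⟩; exact ⟨i, rfl⟩) (htri σ j)
          have h2 : (u j : A) ∈ W := Ideal.mem_sup_left (Ideal.subset_span ⟨j, rfl⟩)
          simpa using W.add_mem h1 h2
        exact hle ha
      have hspan : ∀ v : m, (v : A) ∈ W → m.toCotangent v ∈ Submodule.span κ (Set.range fun i => m.toCotangent (u i)) := by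
        intro v hv
        obtain ⟨y, hy, z, hz, hyz⟩ := Submodule.mem_sup.mp hv
        obtain ⟨c, rfl⟩ := Ideal.mem_span_range_iff_exists_fun.mp hy
        have h0 : m.toCotangent v = ∑ i, c i • m.toCotangent (u i) := by
          simp only [← map_smul, ← map_sum]
          rw [Ideal.toCotangent_eq]
          simpa [← hyz] using hz
        rw [h0]
        refine Submodule.sum_mem _ fun i _ => ?_
        rw [← IsScalarTower.algebraMap_smul κ (c i)]
        exact Submodule.smul_mem _ _ (Submodule.subset_span ⟨i, rfl⟩)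
      have hne : ¬ m ≤ W := by
        intro hle
        have htop : Submodule.span κ (Set.range fun i => m.toCotangent (u i)) = ⊤ := by
          refine eq_top_iff.mpr fun q _ => ?_
          obtain ⟨v, rfl⟩ := m.toCotangent_surjective q
          exact hspan v (hle v.2)
        have h1 := finrank_span_eq_card hli
        rw [htop, finrank_top, hdim, Fintype.card_fin] at h1
        omega
      obtain ⟨v, hv, hvW, hvfix⟩ := exists_fixed_mod p A G hG m W hsm hWst hne
      refine ⟨Fin.snoc u ⟨v, hv⟩, ?_, ?_⟩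
      · have heq : (fun i => m.toCotangent ((Fin.snoc u ⟨v, hv⟩ : Fin (l + 1) → m) i))
            = Fin.snoc (fun i => m.toCotangent (u i)) (m.toCotangent ⟨v, hv⟩) :=
          (Fin.comp_snoc m.toCotangent u ⟨v, hv⟩)
        rw [heq, linearIndependent_finSnoc]
        refine ⟨hli, fun h => hvW ?_⟩
        have h' : m.toCotangent ⟨v, hv⟩ ∈ Submodule.span A (Set.range fun i => m.toCotangent (u i)) := by
          rw [← Submodule.restrictScalars_span A κ Ideal.Quotient.mk_surjective] at *
          exact h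
        obtain ⟨c, hc⟩ := Submodule.mem_span_range_iff_exists_fun A |>.mp h'
        simp only [← map_smul, ← map_sum] at hc
        rw [Ideal.toCotangent_eq] at hc
        have hs : (∑ i, c i * (u i : A)) ∈ W :=
          Ideal.mem_sup_left (Ideal.sum_mem _ fun i _ => Ideal.mul_mem_left _ _ (Ideal.subset_span ⟨i, rfl⟩))
        have := W.sub_mem hs (Ideal.mem_sup_right hc)
        simpa using this
      · intro σ i
        induction i using Fin.lastCases with
        | last =>
          rw [Fin.snoc_last]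
          refine hmono ?_ (hvfix σ)
          rintro _ ⟨j, rfl⟩
          exact ⟨j.castSucc, Fin.castSucc_lt_last j, by simp⟩
        | cast i =>
          rw [Fin.snoc_castSucc]
          refine hmono ?_ (htri σ i)
          rintro _ ⟨j, hj, rfl⟩
          exact ⟨j.castSucc, Fin.castSucc_lt_castSucc_iff.mpr hj, by simp⟩
  obtain ⟨u, hli, htri⟩ := key n le_rfl
  have hspan : Submodule.span κ (Set.range fun i => m.toCotangent (u i)) = ⊤ :=
    hli.span_eq_top_of_card_eq_finrank' (by rw [hdim, Fintype.card_fin])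
  have hA : Submodule.span A (Set.range u) = ⊤ := by
    rw [← IsLocalRing.CotangentSpace.span_image_eq_top_iff, ← Set.range_comp]
    exact hspan
  have hmu : Ideal.span (Set.range fun i => (u i : A)) = m := by
    have := congrArg (Submodule.map m.subtype) hA
    rw [Submodule.map_span, Submodule.map_top, Submodule.range_subtype, ← Set.range_comp] at this
    exact this
  refine ⟨fun i => (u i : A), hmu, fun σ i => ?_⟩
  have h2 : σ • (u i : A) - (u i : A) ∈ Ideal.span ((fun j => (u j : A)) '' {j | j ≤ i}) ⊔ m ^ 2 :=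
    hmono (Set.image_mono fun j (hj : j < i) => hj.le) (htri σ i)
  have h3 : (u i : A) ∈ Ideal.span ((fun j => (u j : A)) '' {j | j ≤ i}) ⊔ m ^ 2 :=
    Ideal.mem_sup_left (Ideal.subset_span ⟨i, le_refl i, rfl⟩)
  simpa using add_mem h2 h3

end Groth.Agent.WildAdm
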